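import Cfsg.Agent.Lib.TransvUniq.L5.Classes
import Cfsg.Agent.Lib.TransvUniq.Control.Basic

/-!
A copy of SL(5,2) containing the centraliser of its transvection, the other involutions not fused to it, is the
whole group.
-/

set_option autoImplicit false
set_option maxRecDepth 100000
set_option maxHeartbeats 2000000

namespace Cfsg.Agent.TransvUniq.L5

open Matrix

attribute [local irreducible] zS uS

/-- The first test transvection. -/
def vM : M5 := transvection 0 2 1

/-- The second test transvection. -/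
def v2M : M5 := transvection 2 3 1

/-- The conjugate of the second test transvection in coordinates. -/
def outerM (a b p q : ZMod 2) : M5 := 1 + vecMulVec ![a, b, 1, 0, 0] ![0, 0, 0, p, q]

/-- The square of the product, in coordinates. -/
def sqM (p q : ZMod 2) : M5 := 1 + vecMulVec ![1, 0, 0, 0, 0] ![0, 0, 0, p, q]

theorem square_eq : ∀ a b p q : ZMod 2, vM * outerM a b p q * (vM * outerM a b p q) = sqM p q := by
  decide +kernel

theorem sqM_cases : ∀ p q : ZMod 2, ¬ (p = 0 ∧ q = 0) →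
    sqM p q = transvection 0 3 1 ∨ sqM p q = transvection 0 4 1 ∨
      sqM p q = transvection 0 3 1 * transvection 0 4 1 := by
  decide +kernel

theorem witness_facts :
    (dec 21250113 * dec 4476993 = 1 ∧ vM * dec 21250113 = dec 21250113 * zM) ∧
    (dec 25695300 * dec 9176133 = 1 ∧ v2M * dec 25695300 = dec 25695300 * zM) ∧
    (dec 25694273 * dec 9179201 = 1 ∧ transvection 0 3 1 * dec 25694273 = dec 25694273 * zM) ∧
    (dec 25432129 * dec 25432129 = 1 ∧
      transvection 0 3 1 * transvection 0 4 1 * dec 25432129 = dec 25432129 * zM) := by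
  decide +kernel

variable {G : Type*} [Group G] (f : S5 →* G)

theorem map_back {a c g : S5} (h : g⁻¹ * a * g = c) : f g * f c * (f g)⁻¹ = f a := by
  have e : a = g * c * g⁻¹ := by rw [← h]; group
  rw [e, map_mul, map_mul, map_inv]

theorem zt_of_wit {M A B : M5} (h1 : A * B = 1) (h2 : M * A = A * zM) {a : S5} (ha : (a : M5) = M) :
    ZT (f zS) (f a) := by
  obtain ⟨g, hg⟩ := exists_of_mul h1
  refine ⟨f g, ?_⟩
  have e : a * g = g * zS := Subtype.ext (by
    simp only [Matrix.SpecialLinearGroup.coe_mul, ha, hg, coe_zS]; exact h2)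
  rw [← map_inv, ← map_mul, ← map_mul, ← e, mul_inv_cancel_right]

theorem comm_entries : ∀ {k : M5}, k * uM = uM * k →
    (k 2 0 = 0 ∧ k 2 1 = 0) ∧ (k 3 0 = 0 ∧ k 3 1 = 0 ∧ k 3 2 = 0) ∧ (k 4 0 = 0 ∧ k 4 1 = 0 ∧ k 4 2 = 0) := by
  intro k h
  have e := fun i j => congrFun (congrFun h i) j
  have a := e 2 3; have b := e 2 4; have c := e 3 3; have d := e 3 4; have p := e 4 3; have q := e 4 4
  have r := e 0 2; have s := e 1 2; have t := e 0 0; have t' := e 0 1; have w := e 1 0; have w' := e 1 1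
  simp [uM, Matrix.mul_apply, transvection, Matrix.single, Fin.sum_univ_five, Matrix.one_apply] at a b c d p q r s t t' w w'
  exact ⟨⟨b, a⟩, ⟨d, c, s⟩, ⟨q, p, r⟩⟩

theorem conj_outer {k ki : M5} (hk : k * ki = 1) :
    k * v2M * ki = 1 + vecMulVec (fun i => k i 2) (fun j => ki 3 j) := by
  rw [v2M, transvection, mul_add, add_mul, mul_one, hk]
  congr 1
  ext i j
  fin_cases i <;> fin_cases j <;>
    simp [Matrix.mul_apply, Matrix.single, vecMulVec, Fin.sum_univ_five]

variable [Finite G]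

/-- The copy is the whole group. -/
theorem range_top (hf : Function.Injective f) (hc : ∀ g : G, g * f zS = f zS * g → g ∈ f.range)
    (hsep : ¬ ZT (f zS) (f uS)) : f.range = ⊤ := by
  have hzz : zS * zS = 1 := Subtype.ext (by
    simp only [Matrix.SpecialLinearGroup.coe_mul, coe_zS, Matrix.SpecialLinearGroup.coe_one]; decide +kernel)
  have huu : uS * uS = 1 := Subtype.ext (by
    simp only [Matrix.SpecialLinearGroup.coe_mul, coe_uS, Matrix.SpecialLinearGroup.coe_one]; decide +kernel)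
  have hu1 : uS ≠ 1 := fun e => by
    have := congrArg (fun g : S5 => (g : M5) 0 4) e
    simp only [coe_uS, Matrix.SpecialLinearGroup.coe_one] at this
    revert this; decide +kernel
  have hcls : ∀ a : S5, a * a = 1 → a ≠ 1 → ¬ ZT (f zS) (f a) → ∃ g : S5, g⁻¹ * a * g = uS := by
    intro a ha ha1 hn
    obtain ⟨g, hg | hg⟩ := involution_classes ha ha1
    · exact absurd ⟨f g, map_back f hg⟩ hn
    · exact ⟨g, hg⟩
  have hctrl : Ctrl f.range (f zS) := by
    refine ⟨by rw [← map_mul, hzz, map_one], hc, fun g hg => ?_⟩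
    obtain ⟨a, ha⟩ := hg
    have ha2 : a * a = 1 := hf (by
      rw [map_mul, map_one, ha, show g * f zS * g⁻¹ * (g * f zS * g⁻¹) = g * (f zS * f zS) * g⁻¹ by group,
        ← map_mul, hzz, map_one, mul_one, mul_inv_cancel])
    have ha1 : a ≠ 1 := fun e => by
      rw [e, map_one] at ha
      have := conj_eq_one_iff.1 ha.symm
      have := hf (this.trans (map_one f).symm)
      have e' := congrArg (fun g : S5 => (g : M5) 0 4) this
      simp only [coe_zS, Matrix.SpecialLinearGroup.coe_one] at e'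
      revert e'; decide +kernel
    obtain ⟨h, hh | hh⟩ := involution_classes ha2 ha1
    · refine ⟨f h, ⟨h, rfl⟩, ?_⟩
      rw [← ha]; exact map_back f hh
    · refine absurd ⟨(f h)⁻¹ * g, ?_⟩ hsep
      rw [← hh, map_mul, map_mul, map_inv, ha]; group
  have hCu : ∀ g : G, g * f uS = f uS * g → g ∈ f.range := by
    intro x hxu
    by_contra hx
    obtain ⟨v, hv⟩ := exists_of_mul (A := vM) (B := vM) (by decide +kernel)
    obtain ⟨w, hw⟩ := exists_of_mul (A := v2M) (B := v2M) (by decide +kernel)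
    obtain ⟨⟨p1, p2⟩, ⟨q1, q2⟩, ⟨r1, r2⟩, ⟨s1, s2⟩⟩ := witness_facts
    have hvu : v * uS = uS * v := Subtype.ext (by
      simp only [Matrix.SpecialLinearGroup.coe_mul, hv, coe_uS]; decide +kernel)
    have hwu : w * uS = uS * w := Subtype.ext (by
      simp only [Matrix.SpecialLinearGroup.coe_mul, hw, coe_uS]; decide +kernel)
    obtain ⟨-, ⟨k, rfl⟩, hku, a, -, hpow⟩ := hctrl.reach (zt_of_wit f p1 p2 hv) ⟨v, rfl⟩
      (by rw [← map_mul, hvu, map_mul]) (zt_of_wit f q1 q2 hw) ⟨w, rfl⟩ (by rw [← map_mul, hwu, map_mul])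
      ⟨uS, rfl⟩ hxu hx
    refine (hpow 2).1 ?_
    rw [← map_inv, ← map_mul, ← map_mul, ← map_mul, ← map_pow]
    have hku' : k * uS = uS * k := hf (by rw [map_mul, map_mul, hku])
    have hk1 : (k : M5) * (k⁻¹ : S5).1 = 1 := by
      rw [← Matrix.SpecialLinearGroup.coe_mul, mul_inv_cancel, Matrix.SpecialLinearGroup.coe_one]
    have hk2 : (k⁻¹ : S5).1 * (k : M5) = 1 := by
      rw [← Matrix.SpecialLinearGroup.coe_mul, inv_mul_cancel, Matrix.SpecialLinearGroup.coe_one]
    obtain ⟨⟨a20, a21⟩, ⟨a30, a31, a32⟩, ⟨a40, a41, a42⟩⟩ := comm_entries (k := (k : M5)) (by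
      rw [← coe_uS, ← Matrix.SpecialLinearGroup.coe_mul, hku', Matrix.SpecialLinearGroup.coe_mul])
    obtain ⟨⟨b20, b21⟩, ⟨b30, b31, b32⟩, ⟨b40, b41, b42⟩⟩ := comm_entries (k := (k⁻¹ : S5).1) (by
      rw [← coe_uS, ← Matrix.SpecialLinearGroup.coe_mul, ← Matrix.SpecialLinearGroup.coe_mul,
        ((Commute.inv_left (show Commute k uS from hku')).eq)])
    obtain ⟨ki, hki⟩ : ∃ ki : M5, (k⁻¹ : S5).1 = ki := ⟨_, rfl⟩
    rw [hki] at hk1 hk2 b20 b21 b30 b31 b32 b40 b41 b42
    have e22 := congrFun (congrFun hk2 2) 2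
    simp [Matrix.mul_apply, Fin.sum_univ_five, b20, b21, a32, a42] at e22
    have e33 := congrFun (congrFun hk2 3) 3
    simp [Matrix.mul_apply, Fin.sum_univ_five, b30, b31, b32] at e33
    have hpq : ¬ (ki 3 3 = 0 ∧ ki 3 4 = 0) := fun ⟨h1, h2⟩ => by
      rw [h1, h2, zero_mul, zero_mul, add_zero] at e33; exact zero_ne_one e33
    have e : ((k * w * k⁻¹ : S5) : M5) =
        outerM ((k : M5) 0 2) ((k : M5) 1 2) (ki 3 3) (ki 3 4) := by
      rw [Matrix.SpecialLinearGroup.coe_mul, Matrix.SpecialLinearGroup.coe_mul, hki, hw, conj_outer hk1]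
      have k22 : (k : M5) 2 2 = 1 := e22.2
      congr 2
      · funext i; fin_cases i <;> simp [k22, a32, a42]
      · funext j; fin_cases j <;> simp [b30, b31, b32]
    have hr : (((v * (k * w * k⁻¹)) ^ 2 : S5) : M5) = sqM (ki 3 3) (ki 3 4) := by
      rw [pow_two, Matrix.SpecialLinearGroup.coe_mul, Matrix.SpecialLinearGroup.coe_mul, hv, e, square_eq]
    rcases sqM_cases _ _ hpq with h | h | h <;> rw [h] at hr
    · exact zt_of_wit f r1 r2 hr
    · exact ⟨1, by rw [one_mul, inv_one, mul_one]; exact congrArg f (Subtype.ext (by rw [hr, coe_zS]; rfl))⟩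
    · exact zt_of_wit f s1 s2 hr
  refine hctrl.eq_top ⟨uS, rfl⟩ (by rw [← map_mul, huu, map_one])
    (fun e => hu1 (hf (e.trans (map_one f).symm))) hsep ?_
  rintro _ ⟨a, rfl⟩ ha ha1 hn g hg
  obtain ⟨h, hh⟩ := hcls a (hf (by rw [map_mul, map_one, ha])) (fun e => ha1 (by rw [e, map_one])) hn
  have hg' : (f h)⁻¹ * g * f h ∈ f.range := hCu _ (by
    rw [← hh, map_mul, map_mul, map_inv]
    calc (f h)⁻¹ * g * f h * ((f h)⁻¹ * f a * f h) = (f h)⁻¹ * (g * f a) * f h := by group
      _ = (f h)⁻¹ * (f a * g) * f h := by rw [hg]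
      _ = _ := by group)
  have := mul_mem (mul_mem (show f h ∈ f.range from ⟨h, rfl⟩) hg') (inv_mem (show f h ∈ f.range from ⟨h, rfl⟩))
  rwa [show f h * ((f h)⁻¹ * g * f h) * (f h)⁻¹ = g by group] at this

end Cfsg.Agent.TransvUniq.L5
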