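import Cfsg.Agent.Lib.TransvUniq.L5.Data
import Cfsg.Agent.Lib.HeUniq.Bit.Five
import Cfsg.Agent.Lib.Classical.SL
import Cfsg.Agent.Lib.Compute.PermCert
import Mathlib.LinearAlgebra.Matrix.Transvection
import Mathlib.GroupTheory.Sylow

/-! SL(5,2) has two classes of involutions: those of a transvection and of a product of two. -/

set_option autoImplicit false
set_option maxRecDepth 100000
set_option maxHeartbeats 800000

namespace Cfsg.Agent.TransvUniq.L5

open Matrix
open Cfsg.Agent.PermCert (allBelow allBelow_spec)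

/-- Matrices of degree five. -/
abbrev M5 := Matrix (Fin 5) (Fin 5) (ZMod 2)

/-- The group. -/
abbrev S5 := Matrix.SpecialLinearGroup (Fin 5) (ZMod 2)

/-- A bit. -/
def bit (c i : ℕ) : ZMod 2 := bif c.testBit i then 1 else 0

/-- An upper unitriangular matrix by code. -/
def uni (c : ℕ) : M5 :=
  !![1, bit c 0, bit c 1, bit c 2, bit c 3;
     0, 1, bit c 4, bit c 5, bit c 6;
     0, 0, 1, bit c 7, bit c 8;
     0, 0, 0, 1, bit c 9;
     0, 0, 0, 0, 1]

/-- A matrix by code. -/
abbrev dec (c : ℕ) : M5 := HeUniq.Bit.toMat 5 c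

/-- The transvection. -/
def zM : M5 := transvection 0 4 1

/-- The product of two commuting transvections. -/
def uM : M5 := transvection 0 4 1 * transvection 1 3 1

/-- A bit of the code at a new place. -/
def mv (c i p : ℕ) : ℕ := bif c.testBit i then 2 ^ p else 0

/-- The packed code of a unitriangular code. -/
def uniC (c : ℕ) : ℕ :=
  17043521 + mv c 0 1 + mv c 1 2 + mv c 2 3 + mv c 3 4 + mv c 4 7 + mv c 5 8 + mv c 6 9 + mv c 7 13 +
    mv c 8 14 + mv c 9 19

/-- The code of the transvection. -/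
def zC : ℕ := 17043521 + 16

/-- The code of the product of two. -/
def uC : ℕ := 17043521 + 16 + 256

theorem uniC_eq : allBelow (fun c => decide (dec (uniC c) = uni c)) 1024 = true := by decide +kernel

theorem code_facts : dec 17043521 = 1 ∧ dec zC = zM ∧ dec uC = uM := by decide +kernel

/-- The check of one code. -/
def witOK (c : ℕ) : Bool :=
  let e := wits.getD c 0
  let g := e >>> 2 &&& 33554431
  let gi := e >>> 27
  Nat.beq c 0 || !Nat.beq (HeUniq.Bit.mul5 (uniC c) (uniC c)) 17043521 ||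
    (Nat.beq (HeUniq.Bit.mul5 g gi) 17043521 &&
      Nat.beq (HeUniq.Bit.mul5 (uniC c) g) (HeUniq.Bit.mul5 g (bif e.testBit 1 then uC else zC)))

theorem wits_ok : allBelow witOK 1024 = true := by decide +kernel

theorem dec_mul (A B : ℕ) : dec (HeUniq.Bit.mul5 A B) = dec A * dec B := by
  rw [HeUniq.Bit.mul5_eq]; exact HeUniq.Bit.toMat_bmul 5 A B

theorem zmod2_one : ∀ a : ZMod 2, a ≠ 0 → a = 1 := by decide

/-- An invertible matrix as an element. -/
theorem exists_of_mul {A B : M5} (h : A * B = 1) : ∃ g : S5, (g : M5) = A := by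
  refine ⟨⟨A, zmod2_one _ fun h0 => ?_⟩, rfl⟩
  have := congrArg Matrix.det h
  rw [Matrix.det_mul, h0, zero_mul, Matrix.det_one] at this
  exact zero_ne_one this

/-- The transvection. -/
noncomputable def zS : S5 := (exists_of_mul (A := zM) (B := zM) (by decide +kernel)).choose

theorem coe_zS : (zS : M5) = zM := (exists_of_mul (A := zM) (B := zM) (by decide +kernel)).choose_spec

/-- The second involution. -/
noncomputable def uS : S5 := (exists_of_mul (A := uM) (B := uM) (by decide +kernel)).choose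

theorem coe_uS : (uS : M5) = uM := (exists_of_mul (A := uM) (B := uM) (by decide +kernel)).choose_spec

theorem uni_mul_mem : ∀ {A B : M5}, (∀ i, A i i = 1) → (∀ i j, j < i → A i j = 0) →
    (∀ i, B i i = 1) → (∀ i j, j < i → B i j = 0) →
    (∀ i, (A * B) i i = 1) ∧ (∀ i j, j < i → (A * B) i j = 0) := by
  intro A B a1 a0 b1 b0
  refine ⟨fun i => ?_, fun i j hij => ?_⟩
  · fin_cases i <;> simp [Matrix.mul_apply, Fin.sum_univ_five, a1, a0, b1, b0]
  · fin_cases i <;> fin_cases j <;>
      first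
      | exact absurd hij (by decide)
      | simp [Matrix.mul_apply, Fin.sum_univ_five, a0, b0]

theorem card_S5 : Nat.card S5 = 9999360 := by
  haveI : Fact (Nat.Prime 2) := ⟨Nat.prime_two⟩
  have h := ClassicalSL.card_sl_mul (ι := Fin 5) (F := ZMod 2)
  have h2 : Nat.card (ZMod 2) = 2 := Nat.card_zmod 2
  rw [h2, show (2 - 1 : ℕ) = 1 from rfl, one_mul, ClassicalSL.card_gl_fin h2 5, Fin.prod_univ_five] at h
  rw [h]
  simp

/-- Every involution is conjugate to one of two. -/
theorem involution_classes {a : S5} (ha : a * a = 1) (ha1 : a ≠ 1) :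
    ∃ g : S5, g⁻¹ * a * g = zS ∨ g⁻¹ * a * g = uS := by
  haveI : Fact (Nat.Prime 2) := ⟨Nat.prime_two⟩
  let M : Submonoid S5 :=
    { carrier := {g | (∀ i, (g : M5) i i = 1) ∧ ∀ i j, j < i → (g : M5) i j = 0}
      mul_mem' := fun {g h} hg hh => by
        have := uni_mul_mem hg.1 hg.2 hh.1 hh.2
        simpa using this
      one_mem' := ⟨fun i => by simp, fun i j hij => by simp [ne_of_gt hij]⟩ }
  let U : Subgroup S5 :=
    { M with
      inv_mem' := fun {g} hg => by
        have h := pow_orderOf_eq_one g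
        have h0 := orderOf_pos g
        have e : g⁻¹ = g ^ (orderOf g - 1) := inv_eq_of_mul_eq_one_right (by
          rw [← pow_succ', show orderOf g - 1 + 1 = orderOf g by omega, h])
        show g⁻¹ ∈ M
        rw [e]; exact M.pow_mem hg _ }
  have hmem : ∀ c, ∃ g : S5, (g : M5) = uni c := fun c =>
    ⟨⟨uni c, by
      rw [Matrix.det_of_upperTriangular]
      · simp [uni, Fin.prod_univ_five]
      · intro i j hij
        fin_cases i <;> fin_cases j <;> first | exact absurd hij (by decide) | rfl⟩, rfl⟩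
  choose el hel using hmem
  have helU : ∀ c, el c ∈ U := fun c => by
    refine ⟨fun i => ?_, fun i j hij => ?_⟩ <;> rw [hel]
    · fin_cases i <;> rfl
    · fin_cases i <;> fin_cases j <;> first | exact absurd hij (by decide) | rfl
  have hbij : Function.Bijective fun c : Fin 1024 => (⟨el c, helU c⟩ : U) := by
    constructor
    · intro c d e
      have e' : uni c = uni d := by rw [← hel, ← hel]; exact congrArg (fun g : U => (g : S5).1) e
      refine Fin.ext (Nat.eq_of_testBit_eq fun i => ?_)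
      rcases Nat.lt_or_ge i 10 with hi | hi
      · have hb : bit c i = bit d i := by
          interval_cases i
          exacts [congrFun (congrFun e' 0) 1, congrFun (congrFun e' 0) 2, congrFun (congrFun e' 0) 3,
            congrFun (congrFun e' 0) 4, congrFun (congrFun e' 1) 2, congrFun (congrFun e' 1) 3,
            congrFun (congrFun e' 1) 4, congrFun (congrFun e' 2) 3, congrFun (congrFun e' 2) 4,
            congrFun (congrFun e' 3) 4]
        unfold bit at hb
        revert hb
        cases (c : ℕ).testBit i <;> cases (d : ℕ).testBit i <;> decide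
      · have h10 : 2 ^ 10 ≤ 2 ^ i := Nat.pow_le_pow_right (by norm_num) hi
        rw [Nat.testBit_lt_two_pow (lt_of_lt_of_le c.2 h10), Nat.testBit_lt_two_pow (lt_of_lt_of_le d.2 h10)]
    · rintro ⟨g, hg1, hg0⟩
      obtain ⟨c, hc⟩ : ∃ c : Fin 1024, bit c 0 = g.1 0 1 ∧ bit c 1 = g.1 0 2 ∧ bit c 2 = g.1 0 3 ∧
          bit c 3 = g.1 0 4 ∧ bit c 4 = g.1 1 2 ∧ bit c 5 = g.1 1 3 ∧ bit c 6 = g.1 1 4 ∧ bit c 7 = g.1 2 3 ∧
          bit c 8 = g.1 2 4 ∧ bit c 9 = g.1 3 4 := by
        choose b hb using HeUniq.Bit.exists_sc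
        unfold HeUniq.Bit.sc at hb
        let v := Nat.bit (b (g.1 0 1)) (Nat.bit (b (g.1 0 2)) (Nat.bit (b (g.1 0 3)) (Nat.bit (b (g.1 0 4))
          (Nat.bit (b (g.1 1 2)) (Nat.bit (b (g.1 1 3)) (Nat.bit (b (g.1 1 4)) (Nat.bit (b (g.1 2 3))
          (Nat.bit (b (g.1 2 4)) (Nat.bit (b (g.1 3 4)) 0)))))))))
        have hv : v < 1024 := by
          have k2 : ∀ (x : Bool) (n m : ℕ), n < m → Nat.bit x n < 2 * m := by
            intro x n m hnm; cases x <;> simp [Nat.bit] <;> omega
          exact k2 _ _ 512 (k2 _ _ 256 (k2 _ _ 128 (k2 _ _ 64 (k2 _ _ 32 (k2 _ _ 16 (k2 _ _ 8 (k2 _ _ 4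
            (k2 _ _ 2 (k2 _ _ 1 (by norm_num))))))))))
        exact ⟨⟨v, hv⟩, by simp [bit, v, hb, Nat.testBit_bit_succ, Nat.testBit_bit_zero]⟩
      refine ⟨c, Subtype.ext (Subtype.ext ?_)⟩
      show (el c : M5) = g.1
      rw [hel]
      ext i j
      fin_cases i <;> fin_cases j <;>
        first
        | exact (hg1 _).symm
        | exact (hg0 _ _ (by decide)).symm
        | exact hc.1 | exact hc.2.1 | exact hc.2.2.1 | exact hc.2.2.2.1 | exact hc.2.2.2.2.1
        | exact hc.2.2.2.2.2.1 | exact hc.2.2.2.2.2.2.1 | exact hc.2.2.2.2.2.2.2.1 | exact hc.2.2.2.2.2.2.2.2.1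
        | exact hc.2.2.2.2.2.2.2.2.2
  have hUcard : Nat.card U = 2 ^ 10 := by
    rw [← Nat.card_congr (Equiv.ofBijective _ hbij), Nat.card_fin]; norm_num
  let P : Sylow 2 S5 := Sylow.ofCard U (by
    rw [hUcard, card_S5]
    have hodd : (9765 : ℕ).factorization 2 = 0 := Nat.factorization_eq_zero_of_not_dvd (by norm_num)
    rw [show (9999360 : ℕ) = 2 ^ 10 * 9765 by norm_num, Nat.factorization_mul (by norm_num) (by norm_num)]
    rw [Nat.prime_two.factorization_pow]
    simp [hodd])
  have hp : IsPGroup 2 (Subgroup.zpowers a) := by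
    refine IsPGroup.of_card (n := 1) ?_
    rw [Nat.card_zpowers, pow_one]
    exact orderOf_eq_prime (by rw [pow_two, ha]) ha1
  obtain ⟨Q, hQ⟩ := hp.exists_le_sylow
  obtain ⟨h, hh⟩ := MulAction.exists_smul_eq S5 P Q
  have haU : h⁻¹ * a * h ∈ U := by
    have : a ∈ (Q : Subgroup S5) := hQ (Subgroup.mem_zpowers a)
    rw [← hh] at this
    obtain ⟨x, hx, e⟩ := Subgroup.mem_map.1 this
    have e' : h * x * h⁻¹ = a := e
    rw [← e', show h⁻¹ * (h * x * h⁻¹) * h = x by group]
    exact hx
  obtain ⟨c, hc⟩ := hbij.2 ⟨_, haU⟩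
  have hc' : (el c : S5) = h⁻¹ * a * h := congrArg Subtype.val hc
  have hw := allBelow_spec _ _ wits_ok c c.2
  have hu : dec (uniC c) = uni c := of_decide_eq_true (allBelow_spec _ _ uniC_eq c c.2)
  obtain ⟨hone, hzC, huC⟩ := code_facts
  simp only [witOK, Bool.or_eq_true, Bool.and_eq_true, Bool.not_eq_true', Nat.beq_eq] at hw
  have hsq : uni c * uni c = 1 := by
    rw [← hel, ← Matrix.SpecialLinearGroup.coe_mul, hc',
      show h⁻¹ * a * h * (h⁻¹ * a * h) = h⁻¹ * (a * a) * h by group, ha, mul_one, inv_mul_cancel,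
      Matrix.SpecialLinearGroup.coe_one]
  rcases hw with (hw | hw) | ⟨h1, h2⟩
  · exfalso
    refine ha1 ?_
    have e0 : el c = 1 := Subtype.ext (by
      rw [hel, hw, Matrix.SpecialLinearGroup.coe_one]; decide +kernel)
    rw [e0] at hc'
    have e1 : h * (1 : S5) * h⁻¹ = h * (h⁻¹ * a * h) * h⁻¹ := by rw [← hc']
    simpa [mul_assoc] using e1.symm
  · exfalso
    have e : HeUniq.Bit.mul5 (uniC c) (uniC c) = 17043521 := by
      refine HeUniq.Bit.toMat_inj (n := 5) ?_ (by norm_num) ?_
      · rw [HeUniq.Bit.mul5_eq]; exact HeUniq.Bit.bmul_lt 5 _ _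
      · show dec _ = dec _
        rw [dec_mul, hu, hsq, hone]
    rw [e] at hw
    exact absurd hw (by decide)
  · have h1' := congrArg dec h1
    rw [dec_mul, hone] at h1'
    have h2' := congrArg dec h2
    rw [dec_mul, dec_mul, hu] at h2'
    obtain ⟨g, hg⟩ := exists_of_mul h1'
    refine ⟨h * g, ?_⟩
    have key : ∀ t : S5, (t : M5) = dec (bif (wits.getD c 0).testBit 1 then uC else zC) →
        (h * g)⁻¹ * a * (h * g) = t := by
      intro t ht
      have e : el c * g = g * t := Subtype.ext (by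
        simp only [Matrix.SpecialLinearGroup.coe_mul, hel, hg, ht]; exact h2')
      rw [show (h * g)⁻¹ * a * (h * g) = g⁻¹ * ((h⁻¹ * a * h) * g) by group, ← hc', e, inv_mul_cancel_left]
    cases hb : (wits.getD c 0).testBit 1 with
    | true => exact Or.inr (key uS (by rw [hb, cond_true, huC]; exact coe_uS))
    | false => exact Or.inl (key zS (by rw [hb, cond_false, hzC]; exact coe_zS))

end Cfsg.Agent.TransvUniq.L5
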